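import Groth.Agent.NodeModel.Basic

/-!
# The matrix `α(p, q)` on the normal forms
-/

universe u

open MvPowerSeries
open SpinCurv SpinCurv.NodeRing

noncomputable section

namespace Groth.Agent.NodeModel

variable {R : Type u} [CommRing R] {m : Ideal R} [IsAdicComplete m R] {π : R}

theorem coeff_X_mul (l : Fin 2) (h : MvPowerSeries (Fin 2) R) (i j : ℕ) :
    coeff (ex i j) (MvPowerSeries.X l * h) =
      if l = 0 then (if 1 ≤ i then coeff (ex (i - 1) j) h else 0) else (if 1 ≤ j then coeff (ex i (j - 1)) h else 0) := by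
  classical
  rw [X_def, coeff_monomial_mul]
  fin_cases l
  · by_cases hi : 1 ≤ i
    · rw [if_pos (by simp [hi]), if_pos (by rfl), if_pos hi, one_mul]
      congr 2
      rw [eq_ex (ex i j - _)]; simp
    · rw [if_neg (by simp; omega), if_pos (by rfl), if_neg hi]
  · by_cases hj : 1 ≤ j
    · rw [if_pos (by simp [hj]), if_neg (by simp), if_pos hj, one_mul]
      congr 2
      rw [eq_ex (ex i j - _)]; simp
    · rw [if_neg (by simp; omega), if_neg (by simp), if_neg hj]

/-- Every class is a series in `x` plus `y` times a series in `y`. -/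
theorem exists_decomp (hπ : π ∈ m) (a : NodeRing R π) :
    ∃ F A : PowerSeries R, a = ofX R π F + y R π * ofY R π A := by
  obtain ⟨f, rfl⟩ := Ideal.Quotient.mk_surjective a
  choose T hT using fun i j => exists_isSum (m := m) hπ (diag f i j)
  refine ⟨PowerSeries.mk fun d => T d 0, PowerSeries.mk fun e => T 0 (e + 1), ?_⟩
  rw [← map_mul, ← map_add, Ideal.Quotient.eq]
  refine mem_of_isSum_zero hπ fun i j hij => ?_
  let t := PowerSeries.toMvPowerSeries (σ := Fin 2) 0 (PowerSeries.mk fun d => T d 0) +
    MvPowerSeries.X 1 * PowerSeries.toMvPowerSeries (σ := Fin 2) 1 (PowerSeries.mk fun e => T 0 (e + 1))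
  have hs : IsSum m π (diag t i j) (T i j) := by
    refine isSum_single _ ?_ (fun k => ?_) hπ
    · simp only [diag, t, map_add, coeff_toMv, coeff_X_mul, PowerSeries.coeff_mk, add_zero]
      rcases hij with rfl | rfl
      · rcases j with - | j <;> simp
      · rcases i with - | i <;> simp
    · simp only [diag, t, map_add, coeff_toMv, coeff_X_mul, PowerSeries.coeff_mk]
      simp
  have h := (hT i j).sub hs
  rw [sub_self] at h
  exact (funext fun k => by simp [diag, t] : diag (f - t) i j = fun k => diag f i j k - diag t i j k) ▸ h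

/-- The mirror decomposition. -/
theorem exists_decomp' (hπ : π ∈ m) (a : NodeRing R π) :
    ∃ G B : PowerSeries R, a = ofY R π G + x R π * ofX R π B := by
  obtain ⟨f, rfl⟩ := Ideal.Quotient.mk_surjective a
  choose T hT using fun i j => exists_isSum (m := m) hπ (diag f i j)
  refine ⟨PowerSeries.mk fun e => T 0 e, PowerSeries.mk fun d => T (d + 1) 0, ?_⟩
  rw [← map_mul, ← map_add, Ideal.Quotient.eq]
  refine mem_of_isSum_zero hπ fun i j hij => ?_
  let t := PowerSeries.toMvPowerSeries (σ := Fin 2) 1 (PowerSeries.mk fun e => T 0 e) +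
    MvPowerSeries.X 0 * PowerSeries.toMvPowerSeries (σ := Fin 2) 0 (PowerSeries.mk fun d => T (d + 1) 0)
  have hs : IsSum m π (diag t i j) (T i j) := by
    refine isSum_single _ ?_ (fun k => ?_) hπ
    · simp only [diag, t, map_add, coeff_toMv, coeff_X_mul, PowerSeries.coeff_mk, add_zero]
      rcases hij with rfl | rfl
      · rcases j with - | j <;> simp
      · rcases i with - | i <;> simp
    · simp only [diag, t, map_add, coeff_toMv, coeff_X_mul, PowerSeries.coeff_mk]
      simp
  have h := (hT i j).sub hs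
  rw [sub_self] at h
  exact (funext fun k => by simp [diag, t] : diag (f - t) i j = fun k => diag f i j k - diag t i j k) ▸ h

theorem algebraMap_eq (p : R) : algebraMap R (NodeRing R π) p = Ideal.Quotient.mk _ (MvPowerSeries.C p) := rfl

theorem eq_zero_of_row₀ (hπ : π ∈ m) (p : R) (F G : PowerSeries R)
    (h : x R π * ofX R π F + algebraMap R _ p * ofY R π G = 0) : F = 0 := by
  ext d
  rw [algebraMap_eq, ← map_mul, ← map_mul, ← map_add, Ideal.Quotient.eq_zero_iff_mem] at h
  refine IsSum.unique ?_ (isSum_zero_of_mem hπ h (d + 1) 0 (Or.inr rfl))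
  refine isSum_single _ ?_ (fun k => ?_) hπ
  · simp [diag, coeff_toMv, coeff_X_mul, coeff_C_mul]
  · simp [diag, coeff_toMv, coeff_X_mul, coeff_C_mul]

theorem eq_zero_of_row₁ (hπ : π ∈ m) (q : R) (F G : PowerSeries R)
    (h : algebraMap R _ q * ofX R π F + y R π * ofY R π G = 0) : G = 0 := by
  ext d
  rw [algebraMap_eq, ← map_mul, ← map_mul, ← map_add, Ideal.Quotient.eq_zero_iff_mem] at h
  refine IsSum.unique ?_ (isSum_zero_of_mem hπ h 0 (d + 1) (Or.inl rfl))
  refine isSum_single _ ?_ (fun k => ?_) hπ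
  · simp [diag, coeff_toMv, coeff_X_mul, coeff_C_mul]
  · simp [diag, coeff_toMv, coeff_X_mul, coeff_C_mul]

theorem xy (π : R) : x R π * y R π = algebraMap R _ π := by
  rw [algebraMap_eq, ← map_mul, Ideal.Quotient.eq]
  exact Ideal.mem_span_singleton_self _

section Matrix

variable {p q : R}

theorem mulVec_nodeAlpha (v : Fin 2 → NodeRing R (p * q)) :
    Matrix.mulVec (nodeAlpha R p q) v = ![x R (p * q) * v 0 + algebraMap R _ p * v 1,
      algebraMap R _ q * v 0 + y R (p * q) * v 1] := by
  ext i
  fin_cases i <;> simp [nodeAlpha, Matrix.mulVec, dotProduct, Fin.sum_univ_two]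

theorem injective_alpha (hπ : p * q ∈ m) : Function.Injective (fun fg : PowerSeries R × PowerSeries R =>
    Matrix.mulVec (nodeAlpha R p q) ![ofX R (p * q) fg.1, ofY R (p * q) fg.2]) := by
  intro a b h
  simp only [mulVec_nodeAlpha, Matrix.cons_val_zero, Matrix.cons_val_one] at h
  have h0 := congrFun h 0
  have h1 := congrFun h 1
  simp only [Matrix.cons_val_zero, Matrix.cons_val_one] at h0 h1
  refine Prod.ext (sub_eq_zero.1 (eq_zero_of_row₀ hπ p _ (a.2 - b.2) ?_))
    (sub_eq_zero.1 (eq_zero_of_row₁ hπ q (a.1 - b.1) _ ?_))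
  · simp only [ofX, ofY, map_sub]; linear_combination h0
  · simp only [ofX, ofY, map_sub]; linear_combination h1

theorem exists_normal (hπ : p * q ∈ m) (v : Fin 2 → NodeRing R (p * q)) :
    ∃ F G : PowerSeries R, v - ![ofX R (p * q) F, ofY R (p * q) G] ∈ Submodule.span (NodeRing R (p * q))
      {![algebraMap R (NodeRing R (p * q)) p, -x R (p * q)],
        ![y R (p * q), -algebraMap R (NodeRing R (p * q)) q]} := by
  obtain ⟨F, A, hA⟩ := exists_decomp hπ (v 0)
  obtain ⟨G, B, hB⟩ := exists_decomp' hπ (v 1)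
  refine ⟨F + PowerSeries.C p * B, G + PowerSeries.C q * A, Submodule.mem_span_pair.2
    ⟨-ofX R (p * q) B, ofY R (p * q) A, ?_⟩⟩
  ext i
  fin_cases i <;> simp [hA, hB, algebraMap_eq, ofX, ofY] <;> ring

theorem mulVec_eq_zero (v : Fin 2 → NodeRing R (p * q)) (hv : v ∈ Submodule.span (NodeRing R (p * q))
      {![algebraMap R (NodeRing R (p * q)) p, -x R (p * q)],
        ![y R (p * q), -algebraMap R (NodeRing R (p * q)) q]}) :
    Matrix.mulVec (nodeAlpha R p q) v = 0 := by
  obtain ⟨s, t, rfl⟩ := Submodule.mem_span_pair.1 hv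
  rw [mulVec_nodeAlpha]
  have h : x R (p * q) * y R (p * q) = algebraMap R _ p * algebraMap R _ q := (xy (p * q)).trans (map_mul _ p q)
  ext i
  fin_cases i
  · simp; linear_combination t * h
  · simp; linear_combination (-s) * h

end Matrix

end Groth.Agent.NodeModel
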