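import Groth.Prelude.Def_W4c5spincurvestfNode
import Mathlib

/-!
# Normal forms in `R[[x, y]]/(xy - π)` for `π` topologically nilpotent
-/

universe u

open MvPowerSeries Finset

noncomputable section

namespace Groth.Agent.NodeModel

variable {R : Type u} [CommRing R]

/-- `L = Σ π^k c_k` in the `m`-adic topology. -/
def IsSum (m : Ideal R) (π : R) (c : ℕ → R) (L : R) : Prop :=
  ∀ n, L - ∑ k ∈ range n, π ^ k * c k ∈ m ^ n

variable {m : Ideal R} {π : R}

theorem IsSum.add {c d : ℕ → R} {L M : R} (h : IsSum m π c L) (h' : IsSum m π d M) :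
    IsSum m π (fun k => c k + d k) (L + M) := fun n => by
  simp only [mul_add, sum_add_distrib]
  rw [add_sub_add_comm]
  exact add_mem (h n) (h' n)

theorem IsSum.sub {c d : ℕ → R} {L M : R} (h : IsSum m π c L) (h' : IsSum m π d M) :
    IsSum m π (fun k => c k - d k) (L - M) := fun n => by
  simp only [mul_sub, sum_sub_distrib]
  rw [sub_sub_sub_comm]
  exact sub_mem (h n) (h' n)

theorem IsSum.unique [IsHausdorff m R] {c : ℕ → R} {L M : R} (h : IsSum m π c L) (h' : IsSum m π c M) : L = M := by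
  rw [← sub_eq_zero]
  refine IsHausdorff.haus ‹_› _ fun n => ?_
  rw [SModEq.zero, smul_eq_mul, Ideal.mul_top]
  have := sub_mem (h n) (h' n)
  rwa [sub_sub_sub_cancel_right] at this

theorem exists_isSum [IsPrecomplete m R] (hπ : π ∈ m) (c : ℕ → R) : ∃ L, IsSum m π c L := by
  obtain ⟨L, hL⟩ := IsPrecomplete.prec ‹IsPrecomplete m R› (f := fun n => ∑ k ∈ range n, π ^ k * c k) fun {a b} hab => by
    rw [SModEq.sub_mem, smul_eq_mul, Ideal.mul_top, ← neg_mem_iff, neg_sub, ← sum_Ico_eq_sub _ hab]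
    exact sum_mem fun k hk => Ideal.mul_mem_right _ _
      (Ideal.pow_le_pow_right (mem_Ico.1 hk).1 (Ideal.pow_mem_pow hπ k))
  refine ⟨L, fun n => ?_⟩
  have h := hL n
  rw [SModEq.sub_mem, smul_eq_mul, Ideal.mul_top] at h
  exact neg_sub (∑ k ∈ range n, π ^ k * c k) L ▸ neg_mem h

theorem IsSum.cons (hπ : π ∈ m) {c : ℕ → R} {L : R} (h : IsSum m π (fun k => c (k + 1)) L) :
    IsSum m π c (c 0 + π * L) := fun n => by
  rcases n with - | n
  · simp
  rw [sum_range_succ']
  have e : c 0 + π * L - (∑ k ∈ range n, π ^ (k + 1) * c (k + 1) + π ^ 0 * c 0) =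
      π * (L - ∑ k ∈ range n, π ^ k * c (k + 1)) := by
    rw [mul_sub, mul_sum, pow_zero, one_mul]
    simp only [pow_succ', mul_assoc]
    ring
  rw [e, pow_succ']
  exact Ideal.mul_mem_mul hπ (h n)

theorem isSum_single (a : R) {c : ℕ → R} (h0 : c 0 = a) (h : ∀ k, c (k + 1) = 0) (hπ : π ∈ m) : IsSum m π c a := by
  have h1 : IsSum m π (fun k => c (k + 1)) 0 := fun n => by simp [h]
  simpa [h0] using h1.cons hπ

/-- The exponent of `x^i y^j`. -/
def ex (i j : ℕ) : Fin 2 →₀ ℕ := Finsupp.single 0 i + Finsupp.single 1 j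

@[simp] theorem ex_apply_zero (i j : ℕ) : ex i j 0 = i := by simp [ex]

@[simp] theorem ex_apply_one (i j : ℕ) : ex i j 1 = j := by simp [ex]

theorem eq_ex (d : Fin 2 →₀ ℕ) : d = ex (d 0) (d 1) := by
  ext i; fin_cases i <;> simp [ex]

/-- The diagonal through `x^i y^j`. -/
def diag (f : MvPowerSeries (Fin 2) R) (i j : ℕ) : ℕ → R := fun k => coeff (ex (i + k) (j + k)) f

theorem xy_eq : (X 0 * X 1 : MvPowerSeries (Fin 2) R) = monomial (ex 1 1) 1 := by
  rw [X_def, X_def, monomial_mul_monomial, mul_one]; rfl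

theorem coeff_rel (g : MvPowerSeries (Fin 2) R) (π : R) (i j : ℕ) :
    coeff (ex i j) ((X 0 * X 1 - C π) * g) =
      (if 1 ≤ i ∧ 1 ≤ j then coeff (ex (i - 1) (j - 1)) g else 0) - π * coeff (ex i j) g := by
  classical
  rw [sub_mul, map_sub, coeff_C_mul, xy_eq, coeff_monomial_mul]
  have h1 : ex 1 1 ≤ ex i j ↔ 1 ≤ i ∧ 1 ≤ j := by simp [Finsupp.le_def, Fin.forall_fin_two]
  congr 1
  by_cases h : 1 ≤ i ∧ 1 ≤ j
  · rw [if_pos (h1.2 h), if_pos h, one_mul]
    congr 2
    rw [eq_ex (ex i j - ex 1 1)]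
    simp
  · rw [if_neg (h1.not.2 h), if_neg h]

/-- In the class of zero the boundary diagonals sum to zero. -/
theorem isSum_zero_of_mem (hπ : π ∈ m) {f : MvPowerSeries (Fin 2) R}
    (hf : f ∈ Ideal.span {(X 0 * X 1 - C π : MvPowerSeries (Fin 2) R)}) (i j : ℕ) (hij : i = 0 ∨ j = 0) :
    IsSum m π (diag f i j) 0 := by
  obtain ⟨g, rfl⟩ := Ideal.mem_span_singleton'.1 hf
  intro n
  suffices h : ∑ k ∈ range n, π ^ k * diag (g * (X 0 * X 1 - C π)) i j k =
      if n = 0 then 0 else -(π ^ n * coeff (ex (i + (n - 1)) (j + (n - 1))) g) by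
    rw [zero_sub, h]
    split_ifs with hn
    · simp
    · rw [neg_neg]; exact Ideal.mul_mem_right _ _ (Ideal.pow_mem_pow hπ n)
  induction n with
  | zero => simp
  | succ n ih =>
    rw [sum_range_succ, ih, diag, mul_comm g, coeff_rel, if_neg (Nat.succ_ne_zero n), Nat.add_sub_cancel]
    rcases n with - | n
    · rw [if_pos rfl, if_neg (by omega)]; simp
    · rw [if_neg (Nat.succ_ne_zero n), if_pos (by omega), Nat.add_sub_cancel,
        show i + (n + 1) - 1 = i + n by omega, show j + (n + 1) - 1 = j + n by omega]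
      ring

/-- Conversely such a series is a multiple of `xy - π`. -/
theorem mem_of_isSum_zero [IsAdicComplete m R] (hπ : π ∈ m) {f : MvPowerSeries (Fin 2) R}
    (hf : ∀ i j, i = 0 ∨ j = 0 → IsSum m π (diag f i j) 0) :
    f ∈ Ideal.span {(X 0 * X 1 - C π : MvPowerSeries (Fin 2) R)} := by
  choose T hT using fun i j => exists_isSum (m := m) hπ (diag f i j)
  let g : MvPowerSeries (Fin 2) R := fun d => T (d 0 + 1) (d 1 + 1)
  have hg : ∀ i j, coeff (ex i j) g = T (i + 1) (j + 1) := fun i j => by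
    show T (ex i j 0 + 1) (ex i j 1 + 1) = _
    simp
  refine Ideal.mem_span_singleton'.2 ⟨g, ?_⟩
  ext d
  rw [eq_ex d, mul_comm, coeff_rel]
  simp only [hg]
  generalize d 0 = i, d 1 = j
  have hstep : T i j = coeff (ex i j) f + π * T (i + 1) (j + 1) := by
    have e : (fun k => diag f i j (k + 1)) = diag f (i + 1) (j + 1) :=
      funext fun k => congrArg (fun e => coeff e f) (by rw [show i + (k + 1) = i + 1 + k by omega, show j + (k + 1) = j + 1 + k by omega])
    exact (hT i j).unique ((e.symm ▸ hT (i + 1) (j + 1) : IsSum m π (fun k => diag f i j (k + 1)) _).cons hπ)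
  by_cases h : 1 ≤ i ∧ 1 ≤ j
  · rw [if_pos h, Nat.sub_add_cancel h.1, Nat.sub_add_cancel h.2, hstep]; ring
  · rw [if_neg h]
    have h0 := (hT i j).unique (hf i j (by omega))
    rw [h0] at hstep
    linear_combination hstep

theorem coeff_toMv (l : Fin 2) (F : PowerSeries R) (i j : ℕ) :
    coeff (ex i j) (PowerSeries.toMvPowerSeries (σ := Fin 2) l F) =
      if (l = 0 ∧ j = 0) ∨ (l = 1 ∧ i = 0) then PowerSeries.coeff (i + j) F else 0 := by
  classical
  rw [PowerSeries.toMvPowerSeries_eq_subst, PowerSeries.coeff_subst (PowerSeries.HasSubst.X _),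
    finsum_eq_single _ (i + j)]
  · rw [X_pow_eq, coeff_monomial, smul_eq_mul]
    have : (ex i j = Finsupp.single l (i + j)) ↔ ((l = 0 ∧ j = 0) ∨ (l = 1 ∧ i = 0)) := by
      fin_cases l <;> simp [Finsupp.ext_iff, Fin.forall_fin_two, ex, eq_comm]
    by_cases h : ex i j = Finsupp.single l (i + j)
    · rw [if_pos h, if_pos (this.1 h), mul_one]
    · rw [if_neg h, if_neg fun h' => h (this.2 h'), mul_zero]
  · intro d hd
    rw [X_pow_eq, coeff_monomial, if_neg, smul_zero]
    intro h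
    apply hd
    have h0 := congrArg (fun e : Fin 2 →₀ ℕ => e 0 + e 1) h
    fin_cases l <;> simp at h0 <;> omega

end Groth.Agent.NodeModel
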